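import Groth.Agent.RelAmple.K658.SegreTwist
import Groth.Agent.Ega2.TensLift
import Groth.Prelude.Def_LCI2

/-!
# Very ample ⊗ globally generated is very ample
-/

set_option autoImplicit false
universe u
open CategoryTheory CategoryTheory.Limits AlgebraicGeometry TopologicalSpace Opposite
open Groth.Agent.Fdesc.LocGen
open Groth.Agent.Ega2

namespace K658.TensorVery

open K658.SegreTwist

variable {X S : Scheme.{u}}

/-- The base ring. -/
abbrev Z : Type u := ULift.{u} ℤ

theorem isRelVeryAmplePn_tensor (q : X ⟶ S) (L L' : X.Modules) (hva : RelAmple.IsRelVeryAmplePn q L)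
    {m : ℕ} (φ₂ : X ⟶ CohB1.ProjSpace m (ULift.{u} ℤ))
    (τ : (Scheme.Modules.pullback φ₂).obj (Twist.twistProjSpace m (ULift.{u} ℤ) 1) ≅ L') :
    RelAmple.IsRelVeryAmplePn q (CohB1.tensorMod L L') := by
  obtain ⟨n, i, hi, hiq, ⟨eL⟩⟩ := hva
  let tn := CohB1.ProjSpace.toSpec n (ULift.{u} ℤ)
  let tm := CohB1.ProjSpace.toSpec m (ULift.{u} ℤ)
  let fS := specULiftZIsTerminal.from S
  let φ₁ : X ⟶ CohB1.ProjSpace n (ULift.{u} ℤ) := i ≫ pullback.fst tn fS
  let a : X ⟶ PP (ULift.{u} ℤ) n m := pullback.lift φ₁ φ₂ (specULiftZIsTerminal.hom_ext _ _)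
  obtain ⟨N, hN⟩ : ∃ N, (n + 1) * (m + 1) = N + 1 := ⟨(n + 1) * (m + 1) - 1, by
    have h : 0 < (n + 1) * (m + 1) := Nat.mul_pos (Nat.succ_pos n) (Nat.succ_pos m)
    omega⟩
  let e : Fin (N + 1) ≃ Fin (n + 1) × Fin (m + 1) := (finCongr hN.symm).trans finProdFinEquiv.symm
  let σ := segre (ULift.{u} ℤ) n m N e
  let tN := CohB1.ProjSpace.toSpec N (ULift.{u} ℤ)
  let g : X ⟶ CohB1.ProjSpaceOver N S := pullback.lift (a ≫ σ) q (specULiftZIsTerminal.hom_ext _ _)
  have hg1 : g ≫ pullback.fst tN fS = a ≫ σ := pullback.lift_fst _ _ _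
  have hg2 : g ≫ pullback.snd tN fS = q := pullback.lift_snd _ _ _
  have ha1 : a ≫ pullback.fst tn tm = φ₁ := pullback.lift_fst _ _ _
  have ha2 : a ≫ pullback.snd tn tm = φ₂ := pullback.lift_snd _ _ _
  refine ⟨N, g, ?_, hg2, ?_⟩
  · let c := pullback.snd σ (pullback.fst tN fS)
    let b : X ⟶ pullback σ (pullback.fst tN fS) := pullback.lift a g hg1.symm
    have hb1 : b ≫ pullback.fst σ (pullback.fst tN fS) = a := pullback.lift_fst _ _ _
    have hb2 : b ≫ c = g := pullback.lift_snd _ _ _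
    let d : pullback σ (pullback.fst tN fS) ⟶ CohB1.ProjSpaceOver n S :=
      pullback.lift (pullback.fst σ (pullback.fst tN fS) ≫ pullback.fst tn tm) (c ≫ pullback.snd tN fS)
        (specULiftZIsTerminal.hom_ext _ _)
    have hd1 : d ≫ pullback.fst tn fS = pullback.fst σ (pullback.fst tN fS) ≫ pullback.fst tn tm :=
      pullback.lift_fst _ _ _
    have hd2 : d ≫ pullback.snd tn fS = c ≫ pullback.snd tN fS := pullback.lift_snd _ _ _
    have hbd : b ≫ d = i := by
      apply pullback.hom_ext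
      · change (b ≫ d) ≫ pullback.fst tn fS = i ≫ pullback.fst tn fS
        rw [Category.assoc, hd1, ← Category.assoc, hb1, ha1]
      · change (b ≫ d) ≫ pullback.snd tn fS = i ≫ pullback.snd tn fS
        rw [Category.assoc, hd2, ← Category.assoc, hb2]
        exact hg2.trans hiq.symm
    have : IsImmersion (b ≫ d) := by rw [hbd]; exact hi
    have : IsImmersion b := IsImmersion.of_comp b d
    have hc : IsImmersion c := inferInstance
    have hbc : IsImmersion (b ≫ c) := IsImmersion.comp b c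
    rwa [hb2] at hbc
  · obtain ⟨ε⟩ := nonempty_segre_iso (ULift.{u} ℤ) n m N e
    let Om := Twist.twistProjSpace m (ULift.{u} ℤ) 1
    let On := Twist.twistProjSpace n (ULift.{u} ℤ) 1
    let ON := Twist.twistProjSpace N (ULift.{u} ℤ) 1
    have hI : ∀ r, PicF.IsInvertible (Twist.twistProjSpace r (ULift.{u} ℤ) 1) := fun r =>
      TwistInv.isInvertible_twist (𝒜 := CohB1.polyGrading r (ULift.{u} ℤ)) (by
        intro x
        have h1 : ⨆ i, Dp (ULift.{u} ℤ) r i = ⊤ :=
          Groth.Agent.VarietyB.ProjGlue.CoordData.iSup_basicOpen_X (Fin (r + 1)) (ULift.{u} ℤ)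
        have h2 : x ∈ ⨆ i, Dp (ULift.{u} ℤ) r i := h1 ▸ trivial
        obtain ⟨j, hj⟩ := Opens.mem_iSup.1 h2
        exact ⟨T (ULift.{u} ℤ) r j, Dp (ULift.{u} ℤ) r j, hj, fun y hy => hy⟩) 1
    have h1 : PicF.IsInvertible ((Scheme.Modules.pullback (pullback.fst tn tm)).obj On) :=
      isInvertible_pullback _ (hI n)
    have h2 : PicF.IsInvertible ((Scheme.Modules.pullback (pullback.snd tn tm)).obj Om) :=
      isInvertible_pullback _ (hI m)
    let i1 : L ≅ (Scheme.Modules.pullback φ₁).obj On := eL ≪≫ (Scheme.Modules.pullbackComp i (pullback.fst tn fS)).app On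
    let i2 : (Scheme.Modules.pullback a).obj ((Scheme.Modules.pullback (pullback.fst tn tm)).obj On) ≅
        (Scheme.Modules.pullback φ₁).obj On :=
      (Scheme.Modules.pullbackComp a (pullback.fst tn tm)).app On ≪≫ (Scheme.Modules.pullbackCongr ha1).app On
    let i3 : (Scheme.Modules.pullback a).obj ((Scheme.Modules.pullback (pullback.snd tn tm)).obj Om) ≅
        (Scheme.Modules.pullback φ₂).obj Om :=
      (Scheme.Modules.pullbackComp a (pullback.snd tn tm)).app Om ≪≫ (Scheme.Modules.pullbackCongr ha2).app Om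
    let i4 : (Scheme.Modules.pullback g).obj ((Scheme.Modules.pullback (pullback.fst tN fS)).obj ON) ≅
        (Scheme.Modules.pullback a).obj ((Scheme.Modules.pullback σ).obj ON) :=
      (Scheme.Modules.pullbackComp g (pullback.fst tN fS)).app ON ≪≫ (Scheme.Modules.pullbackCongr hg1).app ON ≪≫
        ((Scheme.Modules.pullbackComp a σ).app ON).symm
    exact ⟨(i4 ≪≫ (Scheme.Modules.pullback a).mapIso ε ≪≫
      Groth.Agent.Ega3B.PullTensor.pullTensorIso a h1 h2 ≪≫
      Tens.mapTIso (i2 ≪≫ i1.symm) (i3 ≪≫ τ)).symm⟩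

/-- `L` very ample, `L'` generated by finitely many sections: `L ⊗ L'` is very ample. -/
theorem main (q : X ⟶ S) (L L' : X.Modules) (hva : RelAmple.IsRelVeryAmplePn q L)
    (hL' : PicF.IsInvertible L') {m : ℕ} (s : Fin m → ProjUP.Γm L') (hs : ProjUP.GeneratedBy L' s) :
    RelAmple.IsRelVeryAmplePn q (CohB1.tensorMod L L') := by
  have hcov := H18.PnExist.iSup_genLocus_eq_top hL' s hs
  let s' : Fin (m + 1) → ProjUP.Γm L' := Fin.cons 0 s
  have hcov' : ⨆ i, CohB1.genLocus L' (homOf (M := L') (s' i)) = ⊤ := by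
    rw [eq_top_iff, ← hcov]
    refine iSup_le fun i => ?_
    exact le_iSup (fun i => CohB1.genLocus L' (homOf (M := L') (s' i))) i.succ
  obtain ⟨φ₂, -, τ, -⟩ := H18.PnExist.exists_map m (specULiftZIsTerminal.from X) L' s' hcov'
  exact isRelVeryAmplePn_tensor q L L' hva φ₂ τ

end K658.TensorVery
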