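import Groth.Agent.Ega2.AmpleVery
import Groth.Agent.Pi1C.ZeroScheme

/-!
# Invertible modules on affine schemes of finite type over an affine base are very ample
-/

set_option autoImplicit false
universe u
open CategoryTheory CategoryTheory.Limits AlgebraicGeometry TopologicalSpace Opposite
open Groth.Agent.Fdesc.LocGen

namespace K658.AffVery

variable {X Y : Scheme.{u}}

theorem isGen_pow_smul_iff {M : X.Modules} {U : X.Opens} {e : Γ(M, U)} (he : IsGen e) {a : Γ(X, U)} (ha : IsUnit a)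
    (n : ℕ) : IsGen (a ^ n • e) := he.unit_smul (ha.pow n)

/-- The generating locus of `f • w` is `D(f)` if `w` generates on `D(f)`. -/
theorem genLocus_smul {M : X.Modules} (hM : PicF.IsInvertible M) (f : Γ(X, ⊤)) (w : Γ(M, ⊤))
    (hw : IsGen (res M (X.basicOpen_le f) w)) : CohB1.genLocus M (homOf (f • w)) = X.basicOpen f := by
  apply le_antisymm
  · intro x hx
    obtain ⟨U, hU, hxU, -, e, he⟩ := Groth.Agent.Pi1C.ZeroScheme.exists_affine_isGen hM ⊤ x trivial
    obtain ⟨c, hc⟩ := he.exists_eq (res M le_top w)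
    have h1 : sec (homOf (f • w)) U = (ores le_top f * c) • e := by
      rw [sec_homOf, res_smul, hc, mul_smul]
    have h2 : x ∈ X.basicOpen (ores le_top f * c) := by
      rw [← genLocus_inf_eq (homOf (f • w)) he h1]
      exact ⟨hx, hxU⟩
    rw [X.basicOpen_mul] at h2
    have h3 : x ∈ X.basicOpen (ores (le_top : U ≤ ⊤) f) := h2.1
    have h4 : X.basicOpen (ores (le_top : U ≤ ⊤) f) = U ⊓ X.basicOpen f :=
      X.basicOpen_res f (homOfLE (le_top : U ≤ ⊤)).op
    rw [h4] at h3
    exact h3.2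
  · rw [le_genLocus_iff, sec_homOf, res_smul]
    exact hw.unit_smul (Groth.Agent.Pi1C.ZeroScheme.isUnit_ores_basicOpen f)

theorem exists_local [IsAffine X] {M : X.Modules} (hM : PicF.IsInvertible M) (x : X) :
    ∃ (f : Γ(X, ⊤)) (w : Γ(M, ⊤)), x ∈ X.basicOpen f ∧ IsGen (res M (X.basicOpen_le f) w) := by
  obtain ⟨U, hU, hxU, -, e, he⟩ := Groth.Agent.Pi1C.ZeroScheme.exists_affine_isGen hM ⊤ x trivial
  obtain ⟨f, hfU, hxf⟩ := (isAffineOpen_top X).exists_basicOpen_le (V := U) ⟨x, hxU⟩ trivial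
  have hq : Coh.IsQCoh M := Groth.Agent.Ega2.QCohLocal.isQCoh_of_isInvertible hM
  obtain ⟨n, m, hm⟩ := Groth.Agent.Pi1C.ZeroScheme.exists_res_eq hq (isAffineOpen_top X) f (res M hfU e)
  refine ⟨f, m, hxf, ?_⟩
  rw [hm]
  exact (he.res hfU).unit_smul ((Groth.Agent.Pi1C.ZeroScheme.isUnit_ores_basicOpen f).pow n)

/-- Every invertible module on an affine scheme of finite type over an affine scheme is very ample. -/
theorem isRelVeryAmplePn [IsAffine X] [IsAffine Y] (q : X ⟶ Y) [LocallyOfFiniteType q] (M : X.Modules)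
    (hM : PicF.IsInvertible M) : RelAmple.IsRelVeryAmplePn q M := by
  classical
  choose f w hxf hw using fun x : X => exists_local hM x
  obtain ⟨T, hT⟩ : ∃ T : Finset X, (⊤ : Set X) ⊆ ⋃ x ∈ T, (X.basicOpen (f x) : Set X) := by
    have hc : CompactSpace X := inferInstance
    exact isCompact_univ.elim_finite_subcover (fun x => (X.basicOpen (f x) : Set X)) (fun x => (X.basicOpen (f x)).2)
      (fun x _ => Set.mem_iUnion.2 ⟨x, hxf x⟩)
  have h1 : (q.appLE ⊤ ⊤ le_top).hom.FiniteType :=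
    LocallyOfFiniteType.finiteType_appLE q (isAffineOpen_top Y) (isAffineOpen_top X) le_top
  algebraize [(q.appLE ⊤ ⊤ le_top).hom]
  obtain ⟨S, hS⟩ := (inferInstance : Algebra.FiniteType Γ(Y, ⊤) Γ(X, ⊤)).out
  let J := Option (T × (Bool ⊕ S))
  let s : J → (Coh.structureModule X ⟶ M) := fun j =>
    match j with
    | none => 0
    | some ⟨x, Sum.inl true⟩ => homOf (f x • w x)
    | some ⟨x, Sum.inl false⟩ => homOf (w x)
    | some ⟨x, Sum.inr c⟩ => homOf (c.1 • f x • w x)
  refine Groth.Agent.Ega2.AmpleVery.isRelVeryAmplePn_of_family q M s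
    (Set.range fun x : T => (some ⟨x, Sum.inl true⟩ : J)) ?_ ?_ ?_
  · rw [eq_top_iff]
    intro x _
    obtain ⟨y, hyT, hy⟩ : ∃ y ∈ T, x ∈ X.basicOpen (f y) := by
      have := hT (Set.mem_univ x)
      simpa using this
    refine Opens.mem_iSup.2 ⟨⟨some ⟨⟨y, hyT⟩, Sum.inl true⟩, ⟨y, hyT⟩, rfl⟩, ?_⟩
    change x ∈ CohB1.genLocus M (homOf (f y • w y))
    rw [genLocus_smul hM _ _ (hw y)]
    exact hy
  · rintro ⟨_, x, rfl⟩
    change IsAffineOpen (CohB1.genLocus M (homOf (f x • w x)))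
    rw [genLocus_smul hM _ _ (hw x)]
    exact (isAffineOpen_top X).basicOpen (f x)
  · rintro ⟨_, x, rfl⟩
    have hW : CohB1.genLocus M (homOf (f x • w x)) = X.basicOpen (f x) := genLocus_smul hM _ _ (hw x)
    -- the ring of functions on `D(f)` is generated by the generators, the base and `1 / f`
    obtain ⟨fi, hfi⟩ := (Groth.Agent.Pi1C.ZeroScheme.isUnit_ores_basicOpen (f x)).exists_left_inv
    let S' : Set Γ(X, X.basicOpen (f x)) :=
      insert fi ((ores (X.basicOpen_le (f x))) '' ((S : Set Γ(X, ⊤)) ∪ Set.range (fun r : Γ(Y, ⊤) => q.app ⊤ r)))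
    have hS' : Subring.closure S' = ⊤ := by
      rw [eq_top_iff]
      intro b _
      obtain ⟨n, a, ha⟩ := Groth.Agent.Pi1C.ZeroScheme.exists_ores_eq (isAffineOpen_top X) (f x) b
      have h2 : b = fi ^ n * ores (X.basicOpen_le (f x)) a := by
        rw [ha, ← mul_assoc, ← mul_pow, hfi, one_pow, one_mul]
      have h3 := Algebra.adjoin_eq_ring_closure (R := Γ(Y, ⊤)) (S : Set Γ(X, ⊤))
      rw [hS, Set.union_comm] at h3
      have h4 : a ∈ Subring.closure ((S : Set Γ(X, ⊤)) ∪ Set.range (algebraMap Γ(Y, ⊤) Γ(X, ⊤))) := by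
        rw [← SetLike.mem_coe, ← SetLike.ext'_iff.1 h3]
        trivial
      have h5 : ores (X.basicOpen_le (f x)) a ∈ Subring.closure S' := by
        have h6 : ores (X.basicOpen_le (f x)) a ∈ (Subring.closure
            ((S : Set Γ(X, ⊤)) ∪ Set.range (algebraMap Γ(Y, ⊤) Γ(X, ⊤)))).map (ores (X.basicOpen_le (f x))) :=
          ⟨a, h4, rfl⟩
        rw [RingHom.map_closure] at h6
        refine Subring.closure_mono ?_ h6
        refine Set.Subset.trans ?_ (Set.subset_insert _ _)
        refine Set.image_mono (Set.union_subset_union_right _ ?_)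
        rintro _ ⟨r, rfl⟩
        refine ⟨r, ?_⟩
        change q.app ⊤ r = q.appLE ⊤ ⊤ le_top r
        rw [Scheme.Hom.app_eq_appLE]
        rfl
      rw [h2]
      exact mul_mem (pow_mem (Subring.subset_closure (Set.mem_insert _ _)) n) h5
    refine Groth.Agent.Ega2.VeryAmpleCrit.closure_eq_top_of_le (U := X.basicOpen (f x))
      (W := CohB1.genLocus M (homOf (f x • w x))) hW S' hS' _ ?_
    rintro a (rfl | ⟨b, hb | ⟨r, rfl⟩, rfl⟩)
    · refine Subring.subset_closure (Or.inl ⟨some ⟨x, Sum.inl false⟩, ?_⟩)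
      change sec (homOf (w x)) _ = _ • sec (homOf (f x • w x)) _
      rw [sec_homOf, sec_homOf, res_smul, smul_smul]
      have h7 := congrArg (ores hW.le) hfi
      rw [map_mul, map_one, ores_ores] at h7
      rw [h7, one_smul]
    · refine Subring.subset_closure (Or.inl ⟨some ⟨x, Sum.inr ⟨b, hb⟩⟩, ?_⟩)
      change sec (homOf (b • f x • w x)) _ = _ • sec (homOf (f x • w x)) _
      rw [sec_homOf, sec_homOf, res_smul, ores_ores]
    · refine Subring.subset_closure (Or.inr ⟨r, ?_⟩)
      rw [ores_ores]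

end K658.AffVery
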