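import Groth.Agent.Ega2.H18.PnExist
import Groth.Agent.Ega2.H298.ProjRatio
import Groth.Agent.Ega3B.PullTensor
import Groth.Agent.VarietyB.Segre
import Groth.Agent.Fdesc.LocGenTensor
import Mathlib.AlgebraicGeometry.Morphisms.Immersion

/-!
# The Segre embedding and the twisting sheaves
-/

set_option autoImplicit false
universe u
open CategoryTheory CategoryTheory.Limits AlgebraicGeometry TopologicalSpace Opposite
open Groth.Agent.Fdesc.LocGen
open Groth.Agent.VarietyB Groth.Agent.VarietyB.ProjGlue Groth.Agent.VarietyB.ProjStd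
open Groth.Agent.Ega2

namespace K658.SegreTwist

attribute [local instance] MvPolynomial.gradedAlgebra

variable (R : Type u) [CommRing R]

/-- The coordinate `X_i` in degree one. -/
noncomputable def T (n : ℕ) (i : Fin (n + 1)) : CohB1.polyGrading n R 1 :=
  ⟨MvPolynomial.X i, MvPolynomial.isHomogeneous_X R i⟩

theorem ratio_eq (n : ℕ) (i k : Fin (n + 1)) :
    H298.ProjRatio.ratio (CohB1.polyGrading n R) (T R n i) (T R n k) = ProjStd.ratio (Fin (n + 1)) R i k := by
  refine Subtype.ext (funext fun x => HomogeneousLocalization.val_injective _ ?_)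
  refine (H298.ProjRatio.ratio_apply (CohB1.polyGrading n R) (T R n i) (T R n k) x).trans ?_
  exact (ProjStd.ratio_apply (Fin (n + 1)) R i k x).symm

variable {R} {X : Scheme.{u}}

/-- The section `T_i` of `φ^* O(1)`. -/
noncomputable def tS {n : ℕ} (φ : X ⟶ CohB1.ProjSpace n R) (i : Fin (n + 1)) :
    Coh.structureModule X ⟶ (Scheme.Modules.pullback φ).obj (Twist.twistProjSpace n R 1) :=
  H298.ProjRatio.pull (CohB1.polyGrading n R) φ (T R n i)

/-- The standard open. -/
noncomputable def Dp (R : Type u) [CommRing R] (n : ℕ) (i : Fin (n + 1)) : (CohB1.ProjSpace n R).Opens :=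
  Proj.basicOpen (MvPolynomial.homogeneousSubmodule (Fin (n + 1)) R) (MvPolynomial.X i)

theorem isGen_tS {n : ℕ} (φ : X ⟶ CohB1.ProjSpace n R) (i : Fin (n + 1)) : IsGen (sec (tS φ i) (φ ⁻¹ᵁ Dp R n i)) :=
  H298.ProjRatio.isGen_pull (CohB1.polyGrading n R) φ (T R n i)

theorem sec_tS {n : ℕ} (φ : X ⟶ CohB1.ProjSpace n R) (i k : Fin (n + 1)) :
    sec (tS φ k) (φ ⁻¹ᵁ Dp R n i) =
      (φ.app (Dp R n i) (ProjStd.ratio (Fin (n + 1)) R i k) : Γ(X, φ ⁻¹ᵁ Dp R n i)) •
        sec (tS φ i) (φ ⁻¹ᵁ Dp R n i) := by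
  have h := H298.ProjRatio.sec_pull_eq_smul (CohB1.polyGrading n R) φ (T R n i) (T R n k)
  rw [ratio_eq] at h
  exact h

/-- Criterion: a module with sections `s k` having the ratios of the coordinates is `ψ^* O(1)`. -/
theorem nonempty_iso {N : ℕ} (ψ : X ⟶ CohB1.ProjSpace N R) {M : X.Modules}
    (s : Fin (N + 1) → (Coh.structureModule X ⟶ M))
    (hU : ∀ i, IsGen (sec (s i) (ψ ⁻¹ᵁ Dp R N i)))
    (hf : ∀ i j, sec (s j) (ψ ⁻¹ᵁ Dp R N i) =
      (ψ.app (Dp R N i) (ProjStd.ratio (Fin (N + 1)) R i j) : Γ(X, ψ ⁻¹ᵁ Dp R N i)) • sec (s i) (ψ ⁻¹ᵁ Dp R N i)) :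
    Nonempty ((Scheme.Modules.pullback ψ).obj (Twist.twistProjSpace N R 1) ≅ M) := by
  refine PnMap.pullback_iso_of_ratio ψ (N := Twist.twistProjSpace N R 1) (M := M) (Dp R N)
    (fun i => VeryAmpleCrit.gen R i) (fun i => VeryAmpleCrit.isGen_gen i)
    (fun i j => ProjStd.ratio (Fin (N + 1)) R i j) (fun i j => VeryAmpleCrit.gen_rel i j) s ?_
    (fun i => (le_genLocus_iff (s i) _).mpr (hU i)) hf
  rw [← Scheme.Hom.preimage_iSup]
  have h1 : ⨆ i, Dp R N i = ⊤ := CoordData.iSup_basicOpen_X (Fin (N + 1)) R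
  rw [h1]
  rfl

section segre

variable (R) (n m N : ℕ) (e : Fin (N + 1) ≃ Fin (n + 1) × Fin (m + 1))

/-- The product of projective spaces. -/
noncomputable abbrev PP : Scheme.{u} := pullback (CohB1.ProjSpace.toSpec n R) (CohB1.ProjSpace.toSpec m R)

/-- The Segre coordinates. -/
noncomputable def data : CoordData (PP R n m) (Fin (N + 1)) :=
  reindexData (prodData
    (pullbackData (pullback.fst (CohB1.ProjSpace.toSpec n R) (CohB1.ProjSpace.toSpec m R)) (stdData (Fin (n + 1)) R))
    (pullbackData (pullback.snd (CohB1.ProjSpace.toSpec n R) (CohB1.ProjSpace.toSpec m R)) (stdData (Fin (m + 1)) R))) e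

theorem isClosedData : Segre.IsClosedData (data R n m N e)
    (pullback.fst (CohB1.ProjSpace.toSpec n R) (CohB1.ProjSpace.toSpec m R) ≫ CohB1.ProjSpace.toSpec n R) :=
  ((Segre.isClosedData_std (I := Fin (n + 1)) (R := R)).segre
    (IsPullback.of_hasPullback (CohB1.ProjSpace.toSpec n R) (CohB1.ProjSpace.toSpec m R))
    (Segre.isClosedData_std (I := Fin (m + 1)) (R := R))).reindex e

/-- The Segre embedding. -/
noncomputable def segre : PP R n m ⟶ CohB1.ProjSpace N R :=
  (data R n m N e).toProjSpace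
    (pullback.fst (CohB1.ProjSpace.toSpec n R) (CohB1.ProjSpace.toSpec m R) ≫ CohB1.ProjSpace.toSpec n R)

instance : IsClosedImmersion (segre R n m N e) := (isClosedData R n m N e).isClosedImmersion

theorem segre_toSpec : segre R n m N e ≫ CohB1.ProjSpace.toSpec N R =
    pullback.fst (CohB1.ProjSpace.toSpec n R) (CohB1.ProjSpace.toSpec m R) ≫ CohB1.ProjSpace.toSpec n R :=
  CoordData.toProjSpace_toSpec _ _

theorem segre_preimage (k : Fin (N + 1)) : segre R n m N e ⁻¹ᵁ Dp R N k =
    pullback.fst (CohB1.ProjSpace.toSpec n R) (CohB1.ProjSpace.toSpec m R) ⁻¹ᵁ Dp R n (e k).1 ⊓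
      pullback.snd (CohB1.ProjSpace.toSpec n R) (CohB1.ProjSpace.toSpec m R) ⁻¹ᵁ Dp R m (e k).2 :=
  (data R n m N e).preimage_basicOpen (isClosedData R n m N e).basicOpen _ k

/-- The tensor product of two global sections. -/
noncomputable def tsec {M M' : X.Modules} (s : Coh.structureModule X ⟶ M) (s' : Coh.structureModule X ⟶ M') :
    Coh.structureModule X ⟶ CohB1.tensorMod M M' := homOf (tmul (sec s ⊤) (sec s' ⊤))

theorem sec_tsec {M M' : X.Modules} (s : Coh.structureModule X ⟶ M) (s' : Coh.structureModule X ⟶ M')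
    (U : X.Opens) : sec (tsec s s') U = tmul (sec s U) (sec s' U) := by
  rw [tsec, sec_homOf, res_tmul, res_sec, res_sec]

theorem segre_ratio (k l : Fin (N + 1)) :
    (segre R n m N e).app (Dp R N k) (ProjStd.ratio (Fin (N + 1)) R k l) =
      ores (segre_preimage R n m N e k).le
        (ores (inf_le_left)
          ((pullback.fst (CohB1.ProjSpace.toSpec n R) (CohB1.ProjSpace.toSpec m R)).app (Dp R n (e k).1)
            (ProjStd.ratio (Fin (n + 1)) R (e k).1 (e l).1)) *
        ores (inf_le_right)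
          ((pullback.snd (CohB1.ProjSpace.toSpec n R) (CohB1.ProjSpace.toSpec m R)).app (Dp R m (e k).2)
            (ProjStd.ratio (Fin (m + 1)) R (e k).2 (e l).2))) := by
  have h1 := PnMap.appLE_ratio (data R n m N e)
    (pullback.fst (CohB1.ProjSpace.toSpec n R) (CohB1.ProjSpace.toSpec m R) ≫ CohB1.ProjSpace.toSpec n R) k l
    (segre_preimage R n m N e k).ge
  have h2 := congrArg (ores (segre_preimage R n m N e k).le) h1
  refine Eq.trans ?_ h2
  have h3 := VeryAmpleCrit.ores_appLE (segre R n m N e) (V := Dp R N k) (segre_preimage R n m N e k).ge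
    (segre_preimage R n m N e k).le (ProjStd.ratio (Fin (N + 1)) R k l)
  refine Eq.trans ?_ h3.symm
  rw [Scheme.Hom.app_eq_appLE]

/-- The Segre embedding pulls back `O(1)` to `O(1) ⊠ O(1)`. -/
theorem nonempty_segre_iso :
    Nonempty ((Scheme.Modules.pullback (segre R n m N e)).obj (Twist.twistProjSpace N R 1) ≅
      CohB1.tensorMod
        ((Scheme.Modules.pullback (pullback.fst (CohB1.ProjSpace.toSpec n R) (CohB1.ProjSpace.toSpec m R))).obj
          (Twist.twistProjSpace n R 1))
        ((Scheme.Modules.pullback (pullback.snd (CohB1.ProjSpace.toSpec n R) (CohB1.ProjSpace.toSpec m R))).obj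
          (Twist.twistProjSpace m R 1))) := by
  let π₁ := pullback.fst (CohB1.ProjSpace.toSpec n R) (CohB1.ProjSpace.toSpec m R)
  let π₂ := pullback.snd (CohB1.ProjSpace.toSpec n R) (CohB1.ProjSpace.toSpec m R)
  refine nonempty_iso (segre R n m N e) (fun k => tsec (tS π₁ (e k).1) (tS π₂ (e k).2)) (fun k => ?_)
    (fun k l => ?_)
  · rw [sec_tsec, ← res_sec (tS π₁ (e k).1) ((segre_preimage R n m N e k).le.trans inf_le_left),
      ← res_sec (tS π₂ (e k).2) ((segre_preimage R n m N e k).le.trans inf_le_right)]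
    exact ((isGen_tS π₁ (e k).1).res _).tmul ((isGen_tS π₂ (e k).2).res _)
  · rw [sec_tsec, sec_tsec, segre_ratio, map_mul, ores_ores, ores_ores]
    have h1 := congrArg (res _ ((segre_preimage R n m N e k).le.trans inf_le_left)) (sec_tS π₁ (e k).1 (e l).1)
    have h2 := congrArg (res _ ((segre_preimage R n m N e k).le.trans inf_le_right)) (sec_tS π₂ (e k).2 (e l).2)
    rw [res_sec, res_smul, res_sec] at h1 h2
    rw [h1, h2, smul_tmul, tmul_smul, smul_smul]

end segre

end K658.SegreTwist
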